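import Groth.Agent.AbRigid.Push
import Mathlib.AlgebraicGeometry.Geometrically.Integral
import Mathlib.CategoryTheory.Monoidal.Cartesian.Over

/-!
# Rigidity over a base, in the form used for unital multiplications
-/

set_option autoImplicit false
set_option backward.isDefEq.respectTransparency.types false

universe u

open CategoryTheory CategoryTheory.Limits MonoidalCategory CartesianMonoidalCategory AlgebraicGeometry
open TopologicalSpace

namespace Groth.Agent.AbRigid.Rigid

theorem geometricallyConnected_of_integral {X Y : Scheme.{u}} (f : X ⟶ Y) [GeometricallyIntegral f] :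
    GeometricallyConnected f := by
  refine ⟨?_⟩
  intro K _ y A p q hpb
  have : IsIntegral A := GeometricallyIntegral.geometrically_isIntegral (f := f) _ _ _ hpb
  exact inferInstanceAs (ConnectedSpace A)

/-- A fibre of a morphism with geometrically connected fibres is preconnected. -/
theorem isPreconnected_fibre {X Y : Scheme.{u}} (f : X ⟶ Y) [GeometricallyConnected f] (y : Y) :
    _root_.IsPreconnected (f ⁻¹' {y}) := by
  rw [← f.range_fiberι y]
  exact (isConnected_range (f.fiberι y).continuous).isPreconnected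

variable {S : Scheme.{u}}

/-- The points of `P` over the image of `i` lift to `U`-points compatible with `i`. -/
theorem exists_lift_point {P T Z : Over S} (g : P ⟶ T) (i : Z ⟶ T) (w : P.left) (z : Z.left)
    (h : g.left w = i.left z) :
    ∃ (U : Over S) (a : U ⟶ P) (b : U ⟶ Z) (w' : U.left),
      a ≫ g = b ≫ i ∧ a.left w' = w ∧ b.left w' = z := by
  obtain ⟨w', h₁, h₂⟩ := Scheme.Pullback.exists_preimage_pullback (f := g.left) (g := i.left) w z h
  let U : Over S := Over.mk (pullback.fst g.left i.left ≫ P.hom)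
  refine ⟨U, Over.homMk (pullback.fst _ _) rfl, Over.homMk (pullback.snd _ _) ?_, w',
    Over.OverMorphism.ext pullback.condition, h₁, h₂⟩
  show pullback.snd g.left i.left ≫ Z.hom = pullback.fst g.left i.left ≫ P.hom
  rw [← Over.w g, pullback.condition_assoc, Over.w i]

/-- Rigidity: a morphism collapsing the fibres over a set meeting every connected piece is constant
on all fibres. -/
theorem eq_of_collapse {P T Y Z : Over S} (g : P ⟶ T) [IsProper g.left] [Flat g.left]
    [LocallyOfFinitePresentation g.left] [GeometricallyConnected g.left]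
    [GeometricallyReduced g.left] [IsSeparated Y.hom] (σ : T ⟶ P) (hσ : σ ≫ g = 𝟙 T)
    (f : P ⟶ Y) (e : 𝟙_ (Over S) ⟶ Y) (i : Z ⟶ T)
    (hi : ∀ {U : Over S} (a : U ⟶ P) (b : U ⟶ Z), a ≫ g = b ≫ i → a ≫ f = toUnit U ≫ e)
    (hC : ∀ t : T.left, ∃ (z : Z.left) (C : Set T.left), _root_.IsPreconnected C ∧ t ∈ C ∧ i.left z ∈ C) :
    f = g ≫ σ ≫ f := by
  have hσ' : σ.left ≫ g.left = 𝟙 T.left := congrArg CommaMorphism.left hσ
  have key : ∀ t : T.left, ∃ W : T.left.Opens, t ∈ W ∧
      (g.left ⁻¹ᵁ W).ι ≫ f.left = (g.left ⁻¹ᵁ W).ι ≫ g.left ≫ σ.left ≫ f.left := by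
    intro t
    obtain ⟨z, C, hCc, htC, hzC⟩ := hC t
    have hs : (f.left '' (g.left ⁻¹' {i.left z})).Subsingleton := by
      have hval : ∀ x, g.left x = i.left z → f.left x = e.left (T.hom (i.left z)) := fun x hx => by
        obtain ⟨U, a, b, w', hab, ha, -⟩ := exists_lift_point g i x z hx
        have h1 := congrArg (fun m => (CommaMorphism.left m : U.left ⟶ Y.left) w') (hi a b hab)
        simp only [Over.comp_left, Over.toUnit_left, Scheme.Hom.comp_apply] at h1
        rw [ha] at h1
        rw [h1, ← hx, ← Scheme.Hom.comp_apply g.left T.hom, Over.w g, ← ha, ← Scheme.Hom.comp_apply a.left P.hom, Over.w a]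
      rintro _ ⟨x₁, hx₁, rfl⟩ _ ⟨x₂, hx₂, rfl⟩
      exact (hval x₁ hx₁).trans (hval x₂ hx₂).symm
    obtain ⟨W, hW, hzW, k, hk⟩ := Factor.exists_clopen g.left f.left T.hom Y.hom
      (fun V => pushIso g.left V) (by rw [Over.w g, Over.w f]) _ hs
    refine ⟨W, hCc.subset_isClopen ⟨hW, W.isOpen⟩ ⟨_, hzC, hzW⟩ htC, ?_⟩
    let l : W.toScheme ⟶ (g.left ⁻¹ᵁ W).toScheme :=
      IsOpenImmersion.lift (g.left ⁻¹ᵁ W).ι (W.ι ≫ σ.left) (by
        rw [Scheme.Opens.range_ι]
        rintro _ ⟨w, rfl⟩
        show g.left ((W.ι ≫ σ.left) w) ∈ W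
        rw [← Scheme.Hom.comp_apply, Category.assoc, hσ', Category.comp_id]
        exact w.2)
    have hl : l ≫ (g.left ⁻¹ᵁ W).ι = W.ι ≫ σ.left := IsOpenImmersion.lift_fac _ _ _
    have hl' : l ≫ (g.left ∣_ W) = 𝟙 _ := by
      rw [← cancel_mono W.ι, Category.assoc, morphismRestrict_ι, reassoc_of% hl, hσ',
        Category.comp_id, Category.id_comp]
    have hk' : k = W.ι ≫ σ.left ≫ f.left := by
      rw [← Category.id_comp k, ← hl', Category.assoc, ← hk, reassoc_of% hl]
    rw [hk, hk', morphismRestrict_ι_assoc]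
  choose W hW hWeq using key
  refine Over.OverMorphism.ext (Scheme.Cover.hom_ext (P.left.openCoverOfIsOpenCover
    (fun t => g.left ⁻¹ᵁ W t) (.mk (top_le_iff.1 fun x _ =>
      Opens.mem_iSup.2 ⟨g.left x, hW _⟩))) _ _ fun t => ?_)
  exact hWeq t

end Groth.Agent.AbRigid.Rigid
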