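import Mathlib.AlgebraicGeometry.Sites.Fpqc
import Mathlib.AlgebraicGeometry.Morphisms.Proper
import Mathlib.AlgebraicGeometry.Morphisms.UniversallyOpen

/-!
# Rigidity: the locus where a morphism contracts the fibres of a proper flat morphism

For `g : X ⟶ T` proper, flat, of finite presentation with `O_T = g_* O_X`, the set of points of `T`
whose fibre is contracted by a morphism `f : X ⟶ Y` to a separated `S`-scheme is open and closed, and
over it `f` factors through `g`.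
-/

set_option autoImplicit false
set_option backward.isDefEq.respectTransparency.types false

universe u

open CategoryTheory Limits AlgebraicGeometry TopologicalSpace

namespace Groth.Agent.AbRigid.Factor

variable {S T X Y : Scheme.{u}} (g : X ⟶ T) (f : X ⟶ Y)

/-- Near a contracted fibre `f` is constant on the fibres of `g`, scheme theoretically. -/
theorem exists_nhd [IsProper g] [Surjective g] (hO : ∀ V : T.Opens, IsIso (g.app V)) (t : T)
    (ht : (f '' (g ⁻¹' {t})).Subsingleton) :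
    ∃ V : T.Opens, t ∈ V ∧ ∀ (Z : Scheme.{u}) (g₁ g₂ : Z ⟶ (g ⁻¹ᵁ V).toScheme),
      g₁ ≫ (g ∣_ V) = g₂ ≫ (g ∣_ V) → g₁ ≫ (g ⁻¹ᵁ V).ι ≫ f = g₂ ≫ (g ⁻¹ᵁ V).ι ≫ f := by
  obtain ⟨x₀, hx₀⟩ := g.surjective t
  obtain ⟨U, hU, hyU, -⟩ := exists_isAffineOpen_mem_and_subset (U := (⊤ : Y.Opens)) (Opens.mem_top (f x₀))
  let V : T.Opens := ⟨(g '' (f ⁻¹' (U : Set Y))ᶜ)ᶜ,
    (g.isClosedMap _ (U.isOpen.preimage f.continuous).isClosed_compl).isOpen_compl⟩
  refine ⟨V, ?_, fun Z g₁ g₂ h => ?_⟩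
  · rintro ⟨x, hx, hxt⟩
    exact hx (show f x ∈ U from ht ⟨x₀, hx₀, rfl⟩ ⟨x, hxt, rfl⟩ ▸ hyU)
  have hle : ∀ z : (g ⁻¹ᵁ V).toScheme, f ((g ⁻¹ᵁ V).ι z) ∈ U := fun z =>
    by_contra fun hn => z.2 ⟨_, hn, rfl⟩
  have : IsAffine U.toScheme := hU
  let r : (g ⁻¹ᵁ V).toScheme ⟶ U.toScheme := IsOpenImmersion.lift U.ι ((g ⁻¹ᵁ V).ι ≫ f) (by
    rw [Scheme.Opens.range_ι]
    rintro _ ⟨z, rfl⟩
    exact hle z)
  have hr : r ≫ U.ι = (g ⁻¹ᵁ V).ι ≫ f := IsOpenImmersion.lift_fac _ _ _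
  have hiso : IsIso (g ∣_ V).appTop := by
    rw [morphismRestrict_appTop]
    exact @IsIso.comp_isIso _ _ _ _ _ _ _ (hO (V.ι ''ᵁ ⊤))
      (Functor.map_isIso (F := X.presheaf) _)
  suffices g₁ ≫ r = g₂ ≫ r by rw [← hr, reassoc_of% this]
  refine ext_of_isAffine ?_
  have h' : (g ∣_ V).appTop ≫ g₁.appTop = (g ∣_ V).appTop ≫ g₂.appTop := by
    rw [← Scheme.Hom.comp_appTop, ← Scheme.Hom.comp_appTop, h]
  rw [Scheme.Hom.comp_appTop, Scheme.Hom.comp_appTop, ← IsIso.inv_hom_id_assoc (g ∣_ V).appTop g₁.appTop, h',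
    IsIso.inv_hom_id_assoc]

/-- The rigidity lemma. -/
theorem exists_clopen (p : T ⟶ S) (q : Y ⟶ S) [IsSeparated q] [IsProper g] [Flat g]
    [LocallyOfFinitePresentation g] [Surjective g] (hO : ∀ V : T.Opens, IsIso (g.app V))
    (hf : f ≫ q = g ≫ p) (t : T) (ht : (f '' (g ⁻¹' {t})).Subsingleton) :
    ∃ W : T.Opens, IsClosed (W : Set T) ∧ t ∈ W ∧
      ∃ k : (W : Scheme.{u}) ⟶ Y, (g ⁻¹ᵁ W).ι ≫ f = (g ∣_ W) ≫ k := by
  choose V hV hVf using exists_nhd g f hO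
  let C : Set T := {s | (f '' (g ⁻¹' {s})).Subsingleton}
  have hsub : ∀ s hs, (V s hs : Set T) ⊆ C := by
    rintro s hs s' hs' _ ⟨x₁, hx₁, rfl⟩ _ ⟨x₂, hx₂, rfl⟩
    obtain ⟨w, hw₁, hw₂⟩ := Scheme.Pullback.exists_preimage_pullback (f := g ∣_ V s hs) (g := g ∣_ V s hs)
      (⟨x₁, show g x₁ ∈ V s hs from (show g x₁ = s' from hx₁) ▸ hs'⟩ : (g ⁻¹ᵁ V s hs).toScheme)
      (⟨x₂, show g x₂ ∈ V s hs from (show g x₂ = s' from hx₂) ▸ hs'⟩ : (g ⁻¹ᵁ V s hs).toScheme)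
      (Subtype.ext (by rw [morphismRestrict_base_coe, morphismRestrict_base_coe]; exact hx₁.trans hx₂.symm))
    have := congrArg (fun m => (m : _ ⟶ Y) w) (hVf s hs _ _ _ (pullback.condition (f := g ∣_ V s hs) (g := g ∣_ V s hs)))
    simp only [Scheme.Hom.comp_apply] at this
    rw [hw₁, hw₂] at this
    exact this
  have hopen : IsOpen C := isOpen_iff_forall_mem_open.2 fun s hs => ⟨V s hs, hsub s hs, (V s hs).isOpen, hV s hs⟩
  have hclosed : IsClosed C := by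
    let a : pullback g g ⟶ pullback q q := pullback.map g g q q f f p hf.symm hf.symm
    let h := pullback.fst g g ≫ g
    have : Flat (pullback.fst g g) := MorphismProperty.pullback_fst (P := @Flat) _ _ inferInstance
    have : UniversallyOpen h := inferInstance
    have he : C = (h '' (a ⁻¹' Set.range (pullback.diagonal q))ᶜ)ᶜ := by
      ext s
      constructor
      · rintro hs ⟨w, hw, hws⟩
        apply hw
        have hw₁ : g (pullback.fst g g w) ∈ V s hs := by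
          rw [← Scheme.Hom.comp_apply]
          exact (show h w = s from hws).symm ▸ hV s hs
        let O := h ⁻¹ᵁ V s hs
        let π : O.toScheme ⟶ pullback g g := O.ι
        have hr : ∀ i : pullback g g ⟶ X, i ≫ g = h →
            ∃ l : O.toScheme ⟶ (g ⁻¹ᵁ V s hs).toScheme, l ≫ (g ⁻¹ᵁ V s hs).ι = π ≫ i := fun i hi =>
          ⟨IsOpenImmersion.lift (g ⁻¹ᵁ V s hs).ι (π ≫ i) (by
            rw [Scheme.Opens.range_ι]
            rintro _ ⟨z, rfl⟩
            show g (i (π z)) ∈ V s hs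
            rw [← Scheme.Hom.comp_apply i g, hi]
            exact z.2), IsOpenImmersion.lift_fac _ _ _⟩
        obtain ⟨l₁, hl₁⟩ := hr (pullback.fst g g) rfl
        obtain ⟨l₂, hl₂⟩ := hr (pullback.snd g g) pullback.condition.symm
        have he := hVf s hs _ l₁ l₂ (by
          rw [← cancel_mono (V s hs).ι]
          simp only [Category.assoc, morphismRestrict_ι]
          rw [reassoc_of% hl₁, reassoc_of% hl₂, pullback.condition])
        rw [reassoc_of% hl₁, reassoc_of% hl₂] at he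
        have hfac : π ≫ a = (π ≫ pullback.fst g g ≫ f) ≫ pullback.diagonal q := by
          refine pullback.hom_ext ?_ ?_
          · simp only [a, Category.assoc, pullback.lift_fst, pullback.diagonal_fst, Category.comp_id]
          · simp only [a, Category.assoc, pullback.lift_snd, pullback.diagonal_snd, Category.comp_id]
            exact he.symm
        refine ⟨(π ≫ pullback.fst g g ≫ f) ⟨w, hw₁⟩, ?_⟩
        exact (congrArg (fun m => (m : _ ⟶ pullback q q) (⟨w, hw₁⟩ : O.toScheme)) hfac).symm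
      · rintro hs _ ⟨x₁, hx₁, rfl⟩ _ ⟨x₂, hx₂, rfl⟩
        obtain ⟨w, hw₁, hw₂⟩ := Scheme.Pullback.exists_preimage_pullback (f := g) (g := g) x₁ x₂
          ((show g x₁ = s from hx₁).trans hx₂.symm)
        by_contra hne
        refine hs ⟨w, fun ⟨y, hy⟩ => hne ?_, ?_⟩
        · rw [← hw₁, ← hw₂]
          have e₁ : f (pullback.fst g g w) = y := by
            have := congrArg (pullback.fst q q) hy
            rw [← Scheme.Hom.comp_apply, ← Scheme.Hom.comp_apply, pullback.diagonal_fst, pullback.lift_fst] at this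
            exact this.symm
          have e₂ : f (pullback.snd g g w) = y := by
            have := congrArg (pullback.snd q q) hy
            rw [← Scheme.Hom.comp_apply, ← Scheme.Hom.comp_apply, pullback.diagonal_snd, pullback.lift_snd] at this
            exact this.symm
          exact e₁.trans e₂.symm
        · show g (pullback.fst g g w) = s
          rw [hw₁]
          exact hx₁
    rw [he]
    exact (h.isOpenMap _ ((pullback.diagonal q).isClosedEmbedding.isClosed_range.preimage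
      a.continuous).isOpen_compl).isClosed_compl
  let W : T.Opens := ⟨C, hopen⟩
  have : Surjective (g ∣_ W) := IsZariskiLocalAtTarget.restrict ‹Surjective g› W
  have : Flat (g ∣_ W) := IsZariskiLocalAtTarget.restrict ‹Flat g› W
  have : QuasiCompact (g ∣_ W) := IsZariskiLocalAtTarget.restrict (inferInstance : QuasiCompact g) W
  refine ⟨W, hclosed, ht, EffectiveEpi.desc (g ∣_ W) ((g ⁻¹ᵁ W).ι ≫ f) (fun {Z} g₁ g₂ h => ?_),
    (EffectiveEpi.fac (g ∣_ W) _ _).symm⟩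
  let z₀ : Z → T := fun z => ((g₁ ≫ (g ∣_ W)) ≫ W.ι) z
  have hz₀ : ∀ z : Z, (f '' (g ⁻¹' {z₀ z})).Subsingleton := fun z => ((g₁ ≫ (g ∣_ W)) z).2
  let O : Z → Z.Opens := fun z => ((g₁ ≫ (g ∣_ W)) ≫ W.ι) ⁻¹ᵁ V (z₀ z) (hz₀ z)
  refine Scheme.Cover.hom_ext (Z.openCoverOfIsOpenCover O (.mk (top_le_iff.1 fun z _ =>
    Opens.mem_iSup.2 ⟨z, hV _ (hz₀ z)⟩))) _ _ fun z => ?_
  show (O z).ι ≫ g₁ ≫ (g ⁻¹ᵁ W).ι ≫ f = (O z).ι ≫ g₂ ≫ (g ⁻¹ᵁ W).ι ≫ f
  have hcomp : ∀ i : Z ⟶ (g ⁻¹ᵁ W).toScheme, i ≫ (g ∣_ W) = g₁ ≫ (g ∣_ W) →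
      (i ≫ (g ⁻¹ᵁ W).ι) ≫ g = (g₁ ≫ (g ∣_ W)) ≫ W.ι := fun i hi => by
    rw [← hi, Category.assoc, Category.assoc, morphismRestrict_ι]
  have hr : ∀ i : Z ⟶ (g ⁻¹ᵁ W).toScheme, i ≫ (g ∣_ W) = g₁ ≫ (g ∣_ W) →
      ∃ l : (O z).toScheme ⟶ (g ⁻¹ᵁ V (z₀ z) (hz₀ z)).toScheme,
        l ≫ (g ⁻¹ᵁ V (z₀ z) (hz₀ z)).ι = (O z).ι ≫ i ≫ (g ⁻¹ᵁ W).ι := fun i hi =>
    ⟨IsOpenImmersion.lift _ ((O z).ι ≫ i ≫ (g ⁻¹ᵁ W).ι) (by
      rw [Scheme.Opens.range_ι]
      rintro _ ⟨w, rfl⟩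
      show g ((i ≫ (g ⁻¹ᵁ W).ι) ((O z).ι w)) ∈ V _ _
      rw [← Scheme.Hom.comp_apply _ g, hcomp i hi]
      exact w.2), IsOpenImmersion.lift_fac _ _ _⟩
  obtain ⟨l₁, hl₁⟩ := hr g₁ rfl
  obtain ⟨l₂, hl₂⟩ := hr g₂ h.symm
  have he := hVf _ _ _ l₁ l₂ (by
    rw [← cancel_mono (V (z₀ z) (hz₀ z)).ι]
    simp only [Category.assoc, morphismRestrict_ι]
    rw [reassoc_of% hl₁, reassoc_of% hl₂, ← morphismRestrict_ι, reassoc_of% h])
  rwa [reassoc_of% hl₁, reassoc_of% hl₂] at he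

end Groth.Agent.AbRigid.Factor
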