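import Groth.Agent.AbRigid.Factor
import Groth.Agent.LFDesc.Trivial
import Groth.Agent.Hens.SteinConnected
import Groth.Agent.MonoVal.Immersion
import Groth.Prelude.Def_AlgGrp
import Mathlib.AlgebraicGeometry.Geometrically.Irreducible

/-!
# Descent of actions along proper morphisms with `O ≅ f_* O`
-/

set_option autoImplicit false
set_option backward.isDefEq.respectTransparency.types false

universe u

open CategoryTheory CategoryTheory.Limits MonoidalCategory CartesianMonoidalCategory AlgebraicGeometry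
open TopologicalSpace

noncomputable section

namespace Groth.Agent.AbRigid.Blanchard

/-- `π` is surjective, closed, and functions on its source come from the target. -/
structure IsContraction {P T : Scheme.{u}} (π : P ⟶ T) : Prop where
  proper : IsProper π
  surj : Surjective π
  bij : ∀ V : T.Opens, Function.Bijective (π.app V)

theorem IsContraction.baseChange {P T P' T' : Scheme.{u}} {π : P ⟶ T} {p : P' ⟶ P} {π' : P' ⟶ T'}
    {g : T' ⟶ T} (h : IsContraction π) (H : IsPullback p π' π g) [Flat g] : IsContraction π' := by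
  have := h.proper
  exact ⟨MorphismProperty.of_isPullback H h.proper, MorphismProperty.of_isPullback H h.surj,
    LFDesc.bijective_app_of_isPullback H h.bij⟩

theorem IsContraction.epi {P T : Scheme.{u}} {π : P ⟶ T} (h : IsContraction π) : Epi π := by
  refine ⟨fun {Y} b₁ b₂ hb => ?_⟩
  have := h.surj
  have htop : ∀ t, b₁ t = b₂ t := fun t => by
    obtain ⟨x, rfl⟩ := π.surjective t
    rw [← Scheme.Hom.comp_apply, ← Scheme.Hom.comp_apply, hb]
  choose U hU hxU _hle using fun t : T =>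
    exists_isAffineOpen_mem_and_subset (U := (⊤ : Y.Opens)) (Opens.mem_top (b₁ t))
  refine Scheme.Cover.hom_ext (T.openCoverOfIsOpenCover (fun t => b₁ ⁻¹ᵁ U t)
    (.mk (top_le_iff.1 fun t _ => Opens.mem_iSup.2 ⟨t, hxU t⟩))) _ _ fun t => ?_
  let V := b₁ ⁻¹ᵁ U t
  have hle : V ≤ b₂ ⁻¹ᵁ U t := fun z hz => by
    show b₂ z ∈ U t
    rw [← htop]; exact hz
  have : IsAffine (U t) := hU t
  show V.ι ≫ b₁ = V.ι ≫ b₂
  rw [← Scheme.Hom.resLE_comp_ι b₁ (le_refl V), ← Scheme.Hom.resLE_comp_ι b₂ hle]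
  congr 1
  refine ext_of_isAffine ?_
  have hiso : IsIso (π ∣_ V).appTop := by
    rw [morphismRestrict_appTop]
    exact @IsIso.comp_isIso _ _ _ _ _ _ _ ((ConcreteCategory.isIso_iff_bijective _).mpr (h.bij _))
      (Functor.map_isIso (F := P.presheaf) _)
  have he : (π ∣_ V) ≫ b₁.resLE (U t) V le_rfl = (π ∣_ V) ≫ b₂.resLE (U t) V hle := by
    rw [← cancel_mono (U t).ι]
    simp only [Category.assoc, Scheme.Hom.resLE_comp_ι]
    rw [morphismRestrict_ι_assoc, morphismRestrict_ι_assoc, hb]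
  have he' := congrArg Scheme.Hom.appTop he
  rw [Scheme.Hom.comp_appTop, Scheme.Hom.comp_appTop] at he'
  exact (cancel_mono _).mp he'

/-- A morphism constant on the fibres of a contraction factors through it. -/
theorem IsContraction.exists_desc {P T Y : Scheme.{u}} {π : P ⟶ T} (h : IsContraction π) (φ : P ⟶ Y)
    (hφ : ∀ p q : P, π p = π q → φ p = φ q) : ∃ b : T ⟶ Y, π ≫ b = φ := by
  have := h.surj
  have := h.proper
  choose x hx using fun t : T => π.surjective t
  choose U hU hxU _hle using fun t : T =>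
    exists_isAffineOpen_mem_and_subset (U := (⊤ : Y.Opens)) (Opens.mem_top (φ (x t)))
  let V : T → T.Opens := fun t => ⟨(π '' (φ ⁻¹' (U t : Set Y))ᶜ)ᶜ,
    (π.isClosedMap _ ((U t).isOpen.preimage φ.continuous).isClosed_compl).isOpen_compl⟩
  have hV : ∀ t, t ∈ V t := fun t => by
    rintro ⟨z, hz, hzt⟩
    exact hz (show φ z ∈ U t from hφ (x t) z ((hx t).trans hzt.symm) ▸ hxU t)
  have key : ∀ t, ∃ b : (V t).toScheme ⟶ Y, (π ∣_ V t) ≫ b = (π ⁻¹ᵁ V t).ι ≫ φ := fun t => by
    have : IsAffine (U t).toScheme := hU t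
    let r : (π ⁻¹ᵁ V t).toScheme ⟶ (U t).toScheme :=
      IsOpenImmersion.lift (U t).ι ((π ⁻¹ᵁ V t).ι ≫ φ) (by
        rw [Scheme.Opens.range_ι]
        rintro _ ⟨z, rfl⟩
        by_contra hn
        exact z.2 ⟨_, hn, rfl⟩)
    have hiso : IsIso (π ∣_ V t).appTop := by
      rw [morphismRestrict_appTop]
      exact @IsIso.comp_isIso _ _ _ _ _ _ _ ((ConcreteCategory.isIso_iff_bijective _).mpr (h.bij _))
        (Functor.map_isIso (F := P.presheaf) _)
    refine ⟨(V t).toScheme.toSpecΓ ≫ Spec.map (r.appTop ≫ inv (π ∣_ V t).appTop) ≫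
      (U t).toScheme.isoSpec.inv ≫ (U t).ι, ?_⟩
    rw [Scheme.toSpecΓ_naturality_assoc, ← Spec.map_comp_assoc, Category.assoc, IsIso.inv_hom_id,
      Category.comp_id, ← Scheme.toSpecΓ_naturality_assoc, ← Scheme.isoSpec_hom, Iso.hom_inv_id_assoc]
    exact IsOpenImmersion.lift_fac _ _ _
  choose b hb using key
  let 𝒰 := T.openCoverOfIsOpenCover V (.mk (top_le_iff.1 fun t _ => Opens.mem_iSup.2 ⟨t, hV t⟩))
  refine ⟨Scheme.Cover.glueMorphisms 𝒰 b (fun (i j : T) => ?_), ?_⟩
  · let o : pullback (V i).ι (V j).ι ⟶ T := pullback.fst _ _ ≫ (V i).ι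
    have := (h.baseChange (IsPullback.of_hasPullback π o)).epi
    refine (cancel_epi (pullback.snd π o)).mp ?_
    have hl : ∀ (k : T) (s : pullback π o ⟶ (V k).toScheme), s ≫ (V k).ι = pullback.snd π o ≫ o →
        s ≫ b k = pullback.fst π o ≫ φ := fun k s hs => by
      let l : pullback π o ⟶ (π ⁻¹ᵁ V k).toScheme :=
        IsOpenImmersion.lift (π ⁻¹ᵁ V k).ι (pullback.fst π o) (by
          rw [Scheme.Opens.range_ι]
          rintro _ ⟨z, rfl⟩
          show π (pullback.fst π o z) ∈ V k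
          rw [← Scheme.Hom.comp_apply, pullback.condition, ← hs]
          exact (s z).2)
      have hl1 : l ≫ (π ⁻¹ᵁ V k).ι = pullback.fst π o := IsOpenImmersion.lift_fac _ _ _
      have hl2 : l ≫ (π ∣_ V k) = s := by
        rw [← cancel_mono (V k).ι, Category.assoc, morphismRestrict_ι, reassoc_of% hl1,
          pullback.condition, hs]
      rw [← hl2, Category.assoc, hb, reassoc_of% hl1]
    show pullback.snd π o ≫ pullback.fst (V i).ι (V j).ι ≫ b i =
      pullback.snd π o ≫ pullback.snd (V i).ι (V j).ι ≫ b j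
    rw [← Category.assoc, hl i _ (Category.assoc _ _ _), ← Category.assoc, hl j]
    rw [Category.assoc]
    exact congrArg (pullback.snd π o ≫ ·) pullback.condition.symm
  · refine Scheme.Cover.hom_ext (P.openCoverOfIsOpenCover (fun t => π ⁻¹ᵁ V t)
      (.mk (top_le_iff.1 fun z _ => Opens.mem_iSup.2 ⟨π z, hV _⟩))) _ _ fun t => ?_
    show (π ⁻¹ᵁ V t).ι ≫ π ≫ _ = (π ⁻¹ᵁ V t).ι ≫ φ
    rw [← morphismRestrict_ι_assoc, ← hb t]
    exact congrArg ((π ∣_ V t) ≫ ·) (Scheme.Cover.ι_glueMorphisms 𝒰 b _ t)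

section action

open MonObj

variable {k : Type u} [Field k] {X Y : Over (Spec (CommRingCat.of k))}

theorem isContraction {f : X ⟶ Y} [IsProper f.left] (hf : ∀ U : Y.left.Opens, IsIso (f.left.app U)) :
    IsContraction f.left := by
  refine ⟨inferInstance, ⟨fun y => ?_⟩, fun V => (ConcreteCategory.isIso_iff_bijective _).mp (hf V)⟩
  by_contra hy
  let V : Y.left.Opens := ⟨(Set.range f.left)ᶜ, f.left.isClosedMap.isClosed_range.isOpen_compl⟩
  have hyV : y ∈ V := hy
  have h0 : f.left ⁻¹ᵁ V = ⊥ := le_antisymm (fun z hz => absurd ⟨z, rfl⟩ hz) bot_le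
  have : Subsingleton Γ(X.left, f.left ⁻¹ᵁ V) := by
    rw [h0]
    exact CommRingCat.subsingleton_of_isTerminal X.left.sheaf.isTerminalOfEmpty
  have := ((ConcreteCategory.isIso_iff_bijective _).mp (hf V)).1.subsingleton
  have : Nontrivial Γ(Y.left, V) := RingHom.domain_nontrivial (Y.left.presheaf.germ V y hyV).hom
  exact not_subsingleton Γ(Y.left, V) inferInstance

theorem isPullback_whiskerLeft (G : Over (Spec (CommRingCat.of k))) (f : X ⟶ Y) :
    IsPullback (snd G X).left (G ◁ f).left f.left (snd G Y).left := by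
  refine IsPullback.of_bot (v₂₁ := (fst G Y).left) (v₂₂ := Y.hom) (h₃₁ := G.hom) ?_ ?_
    (IsPullback.of_hasPullback G.hom Y.hom).flip
  · rw [← Over.comp_left, whiskerLeft_fst, Over.w f]
    exact (IsPullback.of_hasPullback G.hom X.hom).flip
  · rw [← Over.comp_left, ← Over.comp_left, whiskerLeft_snd]

variable {G : Over (Spec (CommRingCat.of k))}

instance flat_hom (W : Over (Spec (CommRingCat.of k))) : Flat W.hom :=
  have : Subsingleton ↥(Spec (CommRingCat.of k)) := inferInstanceAs (Subsingleton (PrimeSpectrum k))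
  inferInstance

theorem isContraction_whiskerLeft (W : Over (Spec (CommRingCat.of k))) {f : X ⟶ Y} [IsProper f.left]
    (hf : ∀ U : Y.left.Opens, IsIso (f.left.app U)) : IsContraction (W ◁ f).left :=
  have : Flat (snd W Y).left := MorphismProperty.pullback_snd W.hom Y.hom (flat_hom W)
  (isContraction hf).baseChange (isPullback_whiskerLeft W f)

theorem epi_of_isContraction {A B : Over (Spec (CommRingCat.of k))} {q : A ⟶ B}
    (h : IsContraction q.left) : Epi q :=
  have := h.epi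
  (Over.forget _).epi_of_epi_map (inferInstanceAs (Epi q.left))

variable [GrpObj G] {f : X ⟶ Y} [IsProper f.left] (hf : ∀ U : Y.left.Opens, IsIso (f.left.app U))
  (a : AlgGrp.Action G X)

include hf in
/-- An action descends if it preserves the fibres set-theoretically. -/
theorem exists_action
    (h : ∀ p q : ↥(G ⊗ X).left, (G ◁ f).left p = (G ◁ f).left q → (a.act ≫ f).left p = (a.act ≫ f).left q) :
    ∃ b : AlgGrp.Action G Y, (G ◁ f) ≫ b.act = a.act ≫ f := by
  have hc := isContraction_whiskerLeft G hf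
  obtain ⟨b, hb⟩ := hc.exists_desc (a.act ≫ f).left h
  have hbw : b ≫ Y.hom = (G ⊗ Y).hom := by
    have := hc.epi
    rw [← cancel_epi (G ◁ f).left, reassoc_of% hb, Over.w, Over.w]
  let b' : G ⊗ Y ⟶ Y := Over.homMk b hbw
  have hb' : (G ◁ f) ≫ b' = a.act ≫ f := Over.OverMorphism.ext hb
  refine ⟨⟨b', ?_, ?_⟩, hb'⟩
  · have := epi_of_isContraction (isContraction_whiskerLeft (𝟙_ _) hf)
    rw [← cancel_epi (𝟙_ _ ◁ f), whisker_exchange_assoc, hb', reassoc_of% a.one_act,
      leftUnitor_naturality]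
  · have := epi_of_isContraction (isContraction_whiskerLeft (G ⊗ G) hf)
    rw [← cancel_epi ((G ⊗ G) ◁ f), whisker_exchange_assoc, hb', reassoc_of% a.mul_act,
      associator_naturality_right_assoc, ← MonoidalCategory.whiskerLeft_comp_assoc, hb',
      MonoidalCategory.whiskerLeft_comp_assoc, hb']

include hf in
theorem unique_action (b b' : AlgGrp.Action G Y) (h : (G ◁ f) ≫ b.act = (G ◁ f) ≫ b'.act) : b = b' := by
  have := epi_of_isContraction (isContraction_whiskerLeft G hf)
  obtain ⟨x, h1, h2⟩ := b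
  obtain ⟨y, h3, h4⟩ := b'
  obtain rfl : x = y := (cancel_epi _).mp h
  rfl

include hf in
/-- The action of an irreducible group preserves the fibres. -/
theorem apply_eq_of_mem [GeometricallyIrreducible G.hom] [LocallyOfFiniteType G.hom]
    (p q : ↥(G ⊗ X).left) (hpq : (G ◁ f).left p = (G ◁ f).left q) {U : Y.left.Opens}
    (hU : IsAffineOpen U) (hpU : (a.act ≫ f).left p ∈ U) (hqU : (a.act ≫ f).left q ∈ U) :
    (a.act ≫ f).left p = (a.act ≫ f).left q := by
  let π := (G ◁ f).left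
  let φ := (a.act ≫ f).left
  have hc : IsContraction π := isContraction_whiskerLeft G hf
  have := hc.proper
  have := hc.surj
  let t := π p
  let y := (snd G Y).left t
  let i : Y ⟶ G ⊗ Y := lift (toUnit Y ≫ η[G]) (𝟙 Y)
  let t₀ := i.left y
  have ht₀y : (snd G Y).left t₀ = y := by
    show (snd G Y).left (i.left y) = y
    rw [← Scheme.Hom.comp_apply, ← Over.comp_left, lift_snd]
    rfl
  have ht₀ : (φ '' (π ⁻¹' {t₀})).Subsingleton := by
    have hval : ∀ z, π z = t₀ → φ z = y := fun z hz => by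
      obtain ⟨w, hw₁, hw₂⟩ := Scheme.Pullback.exists_preimage_pullback (f := π) (g := i.left) z y hz
      let U : Over (Spec (CommRingCat.of k)) := Over.mk (pullback.fst π i.left ≫ (G ⊗ X).hom)
      let u : U ⟶ G ⊗ X := Over.homMk (pullback.fst π i.left) rfl
      let v : U ⟶ Y := Over.homMk (pullback.snd π i.left) (by
        show pullback.snd π i.left ≫ Y.hom = pullback.fst π i.left ≫ (G ⊗ X).hom
        rw [← Over.w (G ◁ f), pullback.condition_assoc, Over.w i])
      have huv : u ≫ (G ◁ f) = v ≫ i := Over.OverMorphism.ext pullback.condition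
      have h1 : u ≫ fst G X = toUnit U ≫ η[G] := by
        have := congrArg (· ≫ fst G Y) huv
        simpa [i] using this
      have h2 : (u ≫ snd G X) ≫ f = v := by
        have := congrArg (· ≫ snd G Y) huv
        simpa [i] using this
      have h3 : u = lift (toUnit U) (u ≫ snd G X) ≫ (η[G] ▷ X) := by
        refine CartesianMonoidalCategory.hom_ext _ _ ?_ ?_ <;> simp [h1]
      have h4 : u ≫ a.act ≫ f = v := by
        rw [← h2, h3, Category.assoc, reassoc_of% a.one_act, leftUnitor_hom]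
        simp
      have h5 := congrArg (fun m => (CommaMorphism.left m : U.left ⟶ Y.left) w) h4
      rw [← hw₁, ← hw₂]
      exact (Scheme.Hom.comp_apply _ _ _).symm.trans h5
    rintro _ ⟨z₁, hz₁, rfl⟩ _ ⟨z₂, hz₂, rfl⟩
    exact (hval z₁ hz₁).trans (hval z₂ hz₂).symm
  obtain ⟨V, ht₀V, hV⟩ := Factor.exists_nhd π φ
    (fun W => (ConcreteCategory.isIso_iff_bijective _).mpr (hc.bij W)) t₀ ht₀
  -- the slice over `y`
  let jy := (snd G Y).left.fiberι y
  have hsnd : GeometricallyIrreducible (snd G Y).left :=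
    MorphismProperty.pullback_snd G.hom Y.hom ‹_›
  have : IrreducibleSpace ↥((snd G Y).left.fiber y) := inferInstance
  let πy := pullback.snd π jy
  have : UniversallyOpen πy := by
    let fy := pullback.snd f.left (Y.left.fromSpecResidueField y)
    have : Subsingleton ↥(Spec (Y.left.residueField y)) :=
      inferInstanceAs (Subsingleton (PrimeSpectrum _))
    have : Flat fy := inferInstance
    have : LocallyOfFinitePresentation fy := MonoVal.locallyOfFinitePresentation_of_lft fy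
    have hfy : UniversallyOpen fy := inferInstance
    have e1 := (IsPullback.of_hasPullback π jy).paste_horiz (isPullback_whiskerLeft G f)
    have e2 : jy ≫ (snd G Y).left =
        (snd G Y).left.fiberToSpecResidueField y ≫ Y.left.fromSpecResidueField y := pullback.condition
    rw [e2] at e1
    let l := pullback.lift _ (πy ≫ (snd G Y).left.fiberToSpecResidueField y)
      (e1.w.trans (Category.assoc _ _ _).symm)
    have e3 : IsPullback l πy fy ((snd G Y).left.fiberToSpecResidueField y) := by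
      refine IsPullback.of_right ?_ (pullback.lift_snd _ _ _)
        (IsPullback.of_hasPullback f.left (Y.left.fromSpecResidueField y))
      rw [pullback.lift_fst]
      exact e1
    exact MorphismProperty.of_isPullback e3 hfy
  let Q := pullback πy πy
  let h : Q ⟶ _ := pullback.fst πy πy ≫ πy
  let φ₁ := (pullback.fst πy πy ≫ pullback.fst π jy) ≫ φ
  let φ₂ := (pullback.snd πy πy ≫ pullback.fst π jy) ≫ φ
  have hY : ∀ j : Q ⟶ (G ⊗ X).left, j ≫ π = h ≫ jy → (j ≫ φ) ≫ Y.hom = (h ≫ jy) ≫ (G ⊗ Y).hom := by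
    intro j hj
    rw [← hj, Category.assoc, Over.w, Category.assoc, Over.w]
  have hj₁ : (pullback.fst πy πy ≫ pullback.fst π jy) ≫ π = h ≫ jy := by
    rw [Category.assoc, pullback.condition, ← Category.assoc]
  have hj₂ : (pullback.snd πy πy ≫ pullback.fst π jy) ≫ π = h ≫ jy := by
    have : pullback.snd πy πy ≫ πy = h := pullback.condition.symm
    rw [Category.assoc, pullback.condition, ← Category.assoc, this]
  let uY : U.toScheme ⟶ Spec (CommRingCat.of k) := U.ι ≫ Y.hom
  have : IsAffine U.toScheme := hU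
  let Q₀ : Q.Opens := φ₁ ⁻¹ᵁ U ⊓ φ₂ ⁻¹ᵁ U
  let ψ₁ : Q₀.toScheme ⟶ U.toScheme := φ₁.resLE U Q₀ inf_le_left
  let ψ₂ : Q₀.toScheme ⟶ U.toScheme := φ₂.resLE U Q₀ inf_le_right
  have hψ₁ : ψ₁ ≫ U.ι = Q₀.ι ≫ φ₁ := Scheme.Hom.resLE_comp_ι _ _
  have hψ₂ : ψ₂ ≫ U.ι = Q₀.ι ≫ φ₂ := Scheme.Hom.resLE_comp_ι _ _
  let h₀ := Q₀.ι ≫ h
  let e : Q₀.toScheme ⟶ pullback uY uY :=
    pullback.lift ψ₁ ψ₂ (by
      simp only [uY]
      rw [reassoc_of% hψ₁, reassoc_of% hψ₂]
      exact congrArg (Q₀.ι ≫ ·) ((hY _ hj₁).trans (hY _ hj₂).symm))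
  let D : Q₀.toScheme.Opens := ⟨(e ⁻¹' Set.range (pullback.diagonal uY))ᶜ,
    ((pullback.diagonal uY).isClosedEmbedding.isClosed_range.preimage e.continuous).isOpen_compl⟩
  have hD : ∀ z : Q₀.toScheme, z ∉ D := by
    intro z hz
    have ho : IsOpen (h₀ '' (D : Set Q₀.toScheme)) := h₀.isOpenMap _ D.isOpen
    obtain ⟨g₀, hg₀⟩ := ((snd G Y).left.range_fiberι y).ge ht₀y
    obtain ⟨g, ⟨z', hz'D, rfl⟩, hgV⟩ := nonempty_preirreducible_inter ho
      (V.isOpen.preimage jy.continuous) ⟨_, z, hz, rfl⟩ ⟨g₀, show jy g₀ ∈ V from hg₀ ▸ ht₀V⟩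
    apply hz'D
    let O : Q₀.toScheme.Opens := (h₀ ≫ jy) ⁻¹ᵁ V
    have hzO : z' ∈ O := hgV
    have hr : ∀ j : Q ⟶ (G ⊗ X).left, j ≫ π = h ≫ jy →
        ∃ l : O.toScheme ⟶ (π ⁻¹ᵁ V).toScheme, l ≫ (π ⁻¹ᵁ V).ι = O.ι ≫ Q₀.ι ≫ j := fun j hj =>
      ⟨IsOpenImmersion.lift _ (O.ι ≫ Q₀.ι ≫ j) (by
        rw [Scheme.Opens.range_ι]
        rintro _ ⟨w, rfl⟩
        show π ((O.ι ≫ Q₀.ι ≫ j) w) ∈ V
        rw [← Scheme.Hom.comp_apply, Category.assoc, Category.assoc, hj]
        exact w.2), IsOpenImmersion.lift_fac _ _ _⟩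
    obtain ⟨l₁, hl₁⟩ := hr _ hj₁
    obtain ⟨l₂, hl₂⟩ := hr _ hj₂
    have he := hV _ l₁ l₂ (by
      rw [← cancel_mono V.ι]
      simp only [Category.assoc, morphismRestrict_ι]
      rw [reassoc_of% hl₁, reassoc_of% hl₂]
      simpa only [Category.assoc] using congrArg (O.ι ≫ Q₀.ι ≫ ·) (hj₁.trans hj₂.symm))
    rw [reassoc_of% hl₁, reassoc_of% hl₂] at he
    have he' : O.ι ≫ ψ₁ = O.ι ≫ ψ₂ := by
      rw [← cancel_mono U.ι, Category.assoc, Category.assoc, hψ₁, hψ₂]
      simpa only [φ₁, φ₂, Category.assoc] using he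
    have hfac : O.ι ≫ e = (O.ι ≫ ψ₁) ≫ pullback.diagonal uY := by
      refine pullback.hom_ext ?_ ?_
      · simp only [e, Category.assoc, pullback.lift_fst, pullback.diagonal_fst, Category.comp_id]
      · simp only [e, Category.assoc, pullback.lift_snd, pullback.diagonal_snd, Category.comp_id]
        exact he'.symm
    exact ⟨(O.ι ≫ ψ₁) ⟨z', hzO⟩,
      (congrArg (fun m => (m : O.toScheme ⟶ pullback uY uY) ⟨z', hzO⟩) hfac).symm⟩
  obtain ⟨g, hg⟩ := ((snd G Y).left.range_fiberι y).ge (show (snd G Y).left t = y from rfl)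
  obtain ⟨p', hp'₁, hp'₂⟩ := Scheme.Pullback.exists_preimage_pullback (f := π) (g := jy) p g hg.symm
  obtain ⟨q', hq'₁, hq'₂⟩ := Scheme.Pullback.exists_preimage_pullback (f := π) (g := jy) q g
    (hpq.symm.trans hg.symm)
  obtain ⟨w, hw₁, hw₂⟩ := Scheme.Pullback.exists_preimage_pullback (f := πy) (g := πy) p' q'
    (hp'₂.trans hq'₂.symm)
  have h₁ : φ₁ w = φ p := by simp only [φ₁, Scheme.Hom.comp_apply, hw₁, hp'₁]
  have h₂ : φ₂ w = φ q := by simp only [φ₂, Scheme.Hom.comp_apply, hw₂, hq'₁]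
  have hwQ : w ∈ Q₀ := ⟨show φ₁ w ∈ U from h₁ ▸ hpU, show φ₂ w ∈ U from h₂ ▸ hqU⟩
  obtain ⟨v, hv⟩ : e ⟨w, hwQ⟩ ∈ Set.range (pullback.diagonal uY) := by
    by_contra hn
    exact hD _ hn
  have e₁ : ψ₁ ⟨w, hwQ⟩ = v := by
    have := congrArg (pullback.fst uY uY) hv
    rw [← Scheme.Hom.comp_apply, ← Scheme.Hom.comp_apply, pullback.diagonal_fst, pullback.lift_fst] at this
    exact this.symm
  have e₂ : ψ₂ ⟨w, hwQ⟩ = v := by
    have := congrArg (pullback.snd uY uY) hv
    rw [← Scheme.Hom.comp_apply, ← Scheme.Hom.comp_apply, pullback.diagonal_snd, pullback.lift_snd] at this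
    exact this.symm
  have e₃ := congrArg U.ι (e₁.trans e₂.symm)
  rw [← Scheme.Hom.comp_apply, ← Scheme.Hom.comp_apply, hψ₁, hψ₂, Scheme.Hom.comp_apply,
    Scheme.Hom.comp_apply, Scheme.Opens.ι_apply] at e₃
  exact h₁.symm.trans (e₃.trans h₂)

include hf in
/-- The action of an irreducible group preserves the fibres. -/
theorem apply_eq_of_irreducible [GeometricallyIrreducible G.hom] [LocallyOfFiniteType G.hom]
    (p q : ↥(G ⊗ X).left) (hpq : (G ◁ f).left p = (G ◁ f).left q) :
    (a.act ≫ f).left p = (a.act ≫ f).left q := by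
  let π := (G ◁ f).left
  let φ := (a.act ≫ f).left
  have hc : IsContraction π := isContraction_whiskerLeft G hf
  have := hc.proper
  have : GeometricallyConnected π := Hens.SteinConnected.geometricallyConnected π hc.bij
  have hF : _root_.IsPreconnected (π ⁻¹' {π p}) := by
    rw [← π.range_fiberι]
    exact (isConnected_range (π.fiberι (π p)).continuous).isPreconnected
  choose U hU hxU _hle using fun r : ↥(G ⊗ X).left =>
    exists_isAffineOpen_mem_and_subset (U := (⊤ : Y.left.Opens)) (Opens.mem_top (φ r))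
  by_contra hne
  let v : Set ↥(G ⊗ X).left := ⋃ r ∈ {r | π r = π p ∧ φ r ≠ φ p}, φ ⁻¹' (U r : Set Y.left)
  have hv : IsOpen v := isOpen_biUnion fun r _ => (U r).isOpen.preimage φ.continuous
  obtain ⟨w, hwF, hwu, hwv⟩ := hF (φ ⁻¹' (U p : Set Y.left)) v ((U p).isOpen.preimage φ.continuous) hv
    (fun r hr => by
      by_cases h0 : φ r = φ p
      · exact Or.inl (show φ r ∈ U p from h0 ▸ hxU p)
      · exact Or.inr (Set.mem_biUnion (show r ∈ {r | π r = π p ∧ φ r ≠ φ p} from ⟨hr, h0⟩) (hxU r)))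
    ⟨p, rfl, hxU p⟩
    ⟨q, hpq.symm, Set.mem_biUnion (show q ∈ {r | π r = π p ∧ φ r ≠ φ p} from ⟨hpq.symm, fun h => hne h.symm⟩) (hxU q)⟩
  obtain ⟨r, ⟨hr, hrne⟩, hwr⟩ := Set.mem_iUnion₂.mp hwv
  exact hrne ((apply_eq_of_mem hf a r w (hr.trans (Eq.symm hwF)) (hU r) (hxU r) hwr).trans
    (apply_eq_of_mem hf a w p hwF (hU p) hwu (hxU p)))

end action

end Groth.Agent.AbRigid.Blanchard
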