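import Groth.Agent.GrpScheme.IdComponent

/-!
# Connected group schemes over a field are geometrically irreducible
-/

set_option autoImplicit false

universe u

open CategoryTheory AlgebraicGeometry

namespace Groth.Agent.AbRigid

theorem geometricallyIrreducible {k : Type u} [Field k] (G : Over (Spec (CommRingCat.of k))) [GrpObj G]
    [LocallyOfFiniteType G.hom] [ConnectedSpace G.left] : GeometricallyIrreducible G.hom := by
  have : IrreducibleSpace G.left := by
    have h := Groth.Agent.GrpScheme.IdComponent.connectedComponent_eq (K := k) G
    rw [PreconnectedSpace.connectedComponent_eq_univ] at h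
    rw [irreducibleSpace_def, Set.top_eq_univ, h]
    exact isIrreducible_irreducibleComponent
  exact Groth.Agent.GrpScheme.Component.geometricallyIrreducible_of_irreducibleSpace (K := k) G

end Groth.Agent.AbRigid
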