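import Groth.Agent.AbRigid.Factor
import Mathlib.AlgebraicGeometry.Geometrically.Connected
import Mathlib.AlgebraicGeometry.Geometrically.Reduced
import Mathlib.CategoryTheory.Monoidal.Cartesian.Grp

/-!
# Homomorphisms of group schemes from rigidity
-/

set_option autoImplicit false
set_option backward.isDefEq.respectTransparency.types false

universe u

open CategoryTheory CategoryTheory.Limits MonoidalCategory CartesianMonoidalCategory MonObj GrpObj AlgebraicGeometry

namespace Groth.Agent.AbRigid.Hom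

/-- The property that functions on `X` are functions on the base, for every morphism to which it
applies. -/
def PushIso : Prop :=
  ∀ {P T : Scheme.{u}} (g : P ⟶ T) [IsProper g] [Flat g] [LocallyOfFinitePresentation g]
    [GeometricallyConnected g] [GeometricallyReduced g] (V : T.Opens), IsIso (g.app V)

variable {S : Scheme.{u}}

/-- Two homomorphisms agreeing on a fibre agree over a clopen neighbourhood. -/
theorem exists_clopen_eq (hO : PushIso.{u}) (X : Over S) [GrpObj X] [IsProper X.hom] [Flat X.hom]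
    [LocallyOfFinitePresentation X.hom] [GeometricallyReduced X.hom] [GeometricallyConnected X.hom]
    (Y : Over S) [GrpObj Y] [IsSeparated Y.hom]
    (f g : X ⟶ Y) [IsMonHom f] [IsMonHom g] (s : S)
    (hs : X.hom.fiberι s ≫ f.left = X.hom.fiberι s ≫ g.left) :
    ∃ W : S.Opens, IsClosed (W : Set S) ∧ s ∈ W ∧
      (X.hom ⁻¹ᵁ W).ι ≫ f.left = (X.hom ⁻¹ᵁ W).ι ≫ g.left := by
  let F : X ⟶ Y := f * g⁻¹
  let js : Over.mk (X.hom.fiberι s ≫ X.hom) ⟶ X := Over.homMk (X.hom.fiberι s) rfl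
  have hjs : js ≫ f = js ≫ g := Over.OverMorphism.ext hs
  have h1 : js ≫ F = 1 := by rw [MonObj.comp_mul, GrpObj.comp_inv, hjs, mul_inv_cancel]
  have hone : ∀ {U : Over S}, (1 : U ⟶ Y).left = U.hom ≫ η[Y].left := fun {U} => rfl
  have hη : η[X] ≫ F = η[Y] := by
    rw [MonObj.comp_mul, GrpObj.comp_inv, IsMonHom.one_hom, IsMonHom.one_hom, mul_inv_cancel]
    exact (MonObj.one_eq_one _).symm
  have hηX : η[X].left ≫ X.hom = 𝟙 S := Over.w η[X]
  have ht : (F.left '' (X.hom ⁻¹' {s})).Subsingleton := by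
    have hval : ∀ x, X.hom x = s → F.left x = η[Y].left s := fun x hx => by
      obtain ⟨w, rfl⟩ := (X.hom.range_fiberι s).ge hx
      have h2 : X.hom.fiberι s ≫ F.left = (X.hom.fiberι s ≫ X.hom) ≫ η[Y].left :=
        (congrArg CommaMorphism.left h1).trans hone
      have h3 := congrArg (fun m => (m : _ ⟶ Y.left) w) h2
      simp only [Scheme.Hom.comp_apply] at h3
      rw [h3]
      exact congrArg _ hx
    rintro _ ⟨x₁, hx₁, rfl⟩ _ ⟨x₂, hx₂, rfl⟩
    exact (hval x₁ hx₁).trans (hval x₂ hx₂).symm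
  obtain ⟨W, hW, hsW, k, hk⟩ := Factor.exists_clopen X.hom F.left (𝟙 S) Y.hom (fun V => hO X.hom V)
    (by rw [Category.comp_id]; exact Over.w F) s ht
  refine ⟨W, hW, hsW, ?_⟩
  let e : W.toScheme ⟶ (X.hom ⁻¹ᵁ W).toScheme := IsOpenImmersion.lift (X.hom ⁻¹ᵁ W).ι (W.ι ≫ η[X].left) (by
    rw [Scheme.Opens.range_ι]
    rintro _ ⟨w, rfl⟩
    show X.hom ((W.ι ≫ η[X].left) w) ∈ W
    rw [← Scheme.Hom.comp_apply, Category.assoc, hηX]
    exact w.2)
  have he : e ≫ (X.hom ⁻¹ᵁ W).ι = W.ι ≫ η[X].left := IsOpenImmersion.lift_fac _ _ _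
  have he' : e ≫ (X.hom ∣_ W) = 𝟙 _ := by
    rw [← cancel_mono W.ι, Category.assoc, morphismRestrict_ι, reassoc_of% he, hηX,
      Category.comp_id, Category.id_comp]
  have hk' : k = W.ι ≫ η[Y].left := by
    rw [← Category.id_comp k, ← he', Category.assoc, ← hk, reassoc_of% he]
    rw [← Over.comp_left, hη]
  let j : Over.mk ((X.hom ⁻¹ᵁ W).ι ≫ X.hom) ⟶ X := Over.homMk (X.hom ⁻¹ᵁ W).ι rfl
  have hj : j ≫ F = 1 := by
    refine Over.OverMorphism.ext ?_
    rw [hone]
    show (X.hom ⁻¹ᵁ W).ι ≫ F.left = ((X.hom ⁻¹ᵁ W).ι ≫ X.hom) ≫ η[Y].left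
    rw [hk, hk', morphismRestrict_ι_assoc, Category.assoc]
  rw [MonObj.comp_mul, GrpObj.comp_inv, mul_inv_eq_one] at hj
  exact congrArg CommaMorphism.left hj

end Groth.Agent.AbRigid.Hom
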