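import Groth.Agent.AbRigid.Hom
import Groth.Agent.AbSch51.ConstFun

/-!
# Functions on families with connected reduced fibres
-/

set_option autoImplicit false
set_option backward.isDefEq.respectTransparency.types false

universe u

open CategoryTheory AlgebraicGeometry

namespace Groth.Agent.AbRigid

theorem pushIso : Hom.PushIso.{u} := by
  intro P T g _ _ _ _ _ V
  exact (ConcreteCategory.isIso_iff_bijective _).mpr (AbSch51.ConstFun.bijective_app g V)

end Groth.Agent.AbRigid
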